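import Mathlib

/-!
# S3499, natural alternating rows: the vectors (helper87, proof of helper475 / helper575)

`Fam Q f` : vectors `f i j` (`i, j < k`) with `f i j + f j l = f i l`, `Q (f i j) = 1` and
`B (f i j, f a b) = δ_ia + δ_ib + δ_ja + δ_jb`, over a field with two elements.
-/

set_option autoImplicit false
set_option linter.unusedSectionVars false

namespace Cfsg.Agent.H87.NA

open QuadraticMap

universe u v

section Field

variable {F : Type u} [Field F] [Fintype F]

theorem eq_zero_or_one (hF : Fintype.card F = 2) (x : F) : x = 0 ∨ x = 1 := by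
  classical
  by_contra hcon
  push Not at hcon
  have h1 : ({x, 0, 1} : Finset F).card = 3 := by
    rw [Finset.card_insert_of_notMem (by simp [hcon.1, hcon.2]), Finset.card_insert_of_notMem (by simp),
      Finset.card_singleton]
  have h2 := Finset.card_le_univ ({x, 0, 1} : Finset F)
  omega

theorem add_self (hF : Fintype.card F = 2) (x : F) : x + x = 0 := by
  have h := Nat.cast_card_eq_zero F
  rw [hF] at h
  have h2 : (2 : F) = 0 := by exact_mod_cast h
  rw [← two_mul, h2, zero_mul]

theorem add_self' (hF : Fintype.card F = 2) {V : Type v} [AddCommGroup V] [Module F V] (x : V) : x + x = 0 := by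
  rw [← one_smul F x, ← add_smul, add_self hF, zero_smul]

theorem eq_of_add (hF : Fintype.card F = 2) {V : Type v} [AddCommGroup V] [Module F V] {x y : V} (h : x + y = 0) :
    x = y := by
  rw [← add_left_inj y, h, add_self' hF]

end Field

variable {F : Type u} [Field F] {V : Type v} [AddCommGroup V] [Module F V] {k : ℕ}

/-- `δ_ab` -/
def dl (F : Type u) [Field F] (a b : Fin k) : F := if a = b then 1 else 0

theorem dl_self (a : Fin k) : dl F a a = 1 := if_pos rfl

theorem dl_ne {a b : Fin k} (h : a ≠ b) : dl F a b = 0 := if_neg h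

/-- the family of vectors -/
structure Fam (Q : QuadraticForm F V) (f : Fin k → Fin k → V) : Prop where
  f0 : ∀ i, f i i = 0
  f1 : ∀ i j l, f i j + f j l = f i l
  B : ∀ i j a b, polar Q (f i j) (f a b) = dl F i a + dl F i b + dl F j a + dl F j b
  q : ∀ i j, i ≠ j → Q (f i j) = 1

/-- the indicator of a set -/
def ch (F : Type u) [Field F] (Y : Finset (Fin k)) (i : Fin k) : F := if i ∈ Y then 1 else 0

variable [Fintype F] (hF : Fintype.card F = 2) {Q : QuadraticForm F V} {f : Fin k → Fin k → V}

include hF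

theorem Fam.symm (h : Fam Q f) (i j : Fin k) : f i j = f j i :=
  eq_of_add hF (by rw [h.f1, h.f0])

/-- no sum of two `f a b` is a vector of weight six -/
theorem Fam.no_pair (h : Fam Q f) {Y : Finset (Fin k)} (h5 : 5 ≤ Y.card) (h5' : 5 ≤ Yᶜ.card) {y : V}
    (hy : ∀ i j, polar Q y (f i j) = ch F Y i + ch F Y j) (a b c d : Fin k) : f a b + f c d ≠ y := by
  intro e
  have hS : ({a, b, c, d} : Finset (Fin k)).card ≤ 4 := Finset.card_le_four
  obtain ⟨i, hiY, hi⟩ := Finset.exists_mem_notMem_of_card_lt_card (show ({a, b, c, d} : Finset (Fin k)).card < Y.card by omega)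
  obtain ⟨j, hjY, hj⟩ := Finset.exists_mem_notMem_of_card_lt_card
    (show ({a, b, c, d} : Finset (Fin k)).card < Yᶜ.card by omega)
  simp only [Finset.mem_insert, Finset.mem_singleton, not_or] at hi hj
  rw [Finset.mem_compl] at hjY
  have h1 := hy i j
  rw [← e, QuadraticMap.polar_add_left, h.B, h.B, dl_ne (Ne.symm hi.1), dl_ne (Ne.symm hj.1), dl_ne (Ne.symm hi.2.1),
    dl_ne (Ne.symm hj.2.1), dl_ne (Ne.symm hi.2.2.1), dl_ne (Ne.symm hj.2.2.1), dl_ne (Ne.symm hi.2.2.2),
    dl_ne (Ne.symm hj.2.2.2), ch, ch, if_pos hiY, if_neg hjY] at h1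
  simp at h1

/-- `f a b` determines `{a, b}` -/
theorem Fam.mem (h : Fam Q f) (hk : 5 ≤ k) {a b c d : Fin k} (hab : a ≠ b) (e : f c d = f a b) : a = c ∨ a = d := by
  by_contra hcon
  push Not at hcon
  have hS : ({a, b, c, d} : Finset (Fin k)).card ≤ 4 := Finset.card_le_four
  obtain ⟨y, -, hy⟩ := Finset.exists_mem_notMem_of_card_lt_card
    (show ({a, b, c, d} : Finset (Fin k)).card < (Finset.univ : Finset (Fin k)).card by
      rw [Finset.card_univ, Fintype.card_fin]; omega)
  simp only [Finset.mem_insert, Finset.mem_singleton, not_or] at hy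
  have h1 : polar Q (f c d) (f a y) = polar Q (f a b) (f a y) := by rw [e]
  rw [h.B, h.B, dl_ne (Ne.symm hcon.1), dl_ne (Ne.symm hcon.2), dl_ne (Ne.symm hy.2.2.1), dl_ne (Ne.symm hy.2.2.2),
    dl_self, dl_ne (Ne.symm hy.1), dl_ne (Ne.symm hab), dl_ne (Ne.symm hy.2.1)] at h1
  simp at h1

theorem Fam.inj (h : Fam Q f) (hk : 5 ≤ k) {a b c d : Fin k} (hab : a ≠ b) (e : f c d = f a b) :
    (c = a ∧ d = b) ∨ (c = b ∧ d = a) := by
  have h1 := h.mem hF hk hab e
  have h2 := h.mem hF hk (Ne.symm hab) (e.trans (h.symm hF a b))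
  rcases h1 with h1 | h1 <;> rcases h2 with h2 | h2
  · exact absurd (h1.trans h2.symm) hab
  · exact Or.inl ⟨h1.symm, h2.symm⟩
  · exact Or.inr ⟨h2.symm, h1.symm⟩
  · exact absurd (h1.trans h2.symm) hab

/-! ### the vectors `u`, `w` -/

omit [Fintype F] hF in
theorem ch_img {p : Fin 12 → Fin k} (hp : Function.Injective p) (S : Finset (Fin 12)) (t : Fin 12) :
    ch F (S.image p) (p t) = if t ∈ S then 1 else 0 := by
  rw [ch]
  congr 1
  rw [Finset.mem_image]
  exact propext ⟨fun ⟨s, hs, e⟩ => hp e ▸ hs, fun h => ⟨t, h, rfl⟩⟩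

omit [Fintype F] hF in
theorem ch_sum {p : Fin 12 → Fin k} (hp : Function.Injective p) (S : Finset (Fin 12)) (i : Fin k) :
    ch F (S.image p) i = ∑ t ∈ S, dl F (p t) i := by
  classical
  by_cases hi : i ∈ S.image p
  · obtain ⟨t, ht, rfl⟩ := Finset.mem_image.1 hi
    rw [ch_img hp, if_pos ht, Finset.sum_eq_single t (fun s _ hst => dl_ne fun e => hst (hp e)) (fun h => absurd ht h),
      dl_self]
  · rw [ch, if_neg hi, Finset.sum_eq_zero]
    intro t ht
    exact dl_ne fun e => hi (Finset.mem_image.2 ⟨t, ht, e⟩)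

def U6 : Finset (Fin 12) := {0, 1, 2, 3, 4, 5}
def W6 : Finset (Fin 12) := {3, 4, 5, 6, 7, 8}
def X6 : Finset (Fin 12) := {0, 1, 2, 6, 7, 8}

variable {p : Fin 12 → Fin k} (hp : Function.Injective p)

def uu (f : Fin k → Fin k → V) (p : Fin 12 → Fin k) : V := f (p 0) (p 1) + f (p 2) (p 3) + f (p 4) (p 5)
def ww (f : Fin k → Fin k → V) (p : Fin 12 → Fin k) : V := f (p 3) (p 4) + f (p 5) (p 6) + f (p 7) (p 8)

include hp

omit [Fintype F] hF in
theorem Fam.polar_uu (h : Fam Q f) (i j : Fin k) :
    polar Q (uu f p) (f i j) = ch F (U6.image p) i + ch F (U6.image p) j := by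
  rw [ch_sum hp, ch_sum hp, uu, QuadraticMap.polar_add_left, QuadraticMap.polar_add_left, h.B, h.B, h.B, U6,
    Finset.sum_insert (by decide), Finset.sum_insert (by decide), Finset.sum_insert (by decide),
    Finset.sum_insert (by decide), Finset.sum_insert (by decide), Finset.sum_singleton,
    Finset.sum_insert (by decide), Finset.sum_insert (by decide), Finset.sum_insert (by decide),
    Finset.sum_insert (by decide), Finset.sum_insert (by decide), Finset.sum_singleton]
  ring

omit [Fintype F] hF in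
theorem Fam.polar_ww (h : Fam Q f) (i j : Fin k) :
    polar Q (ww f p) (f i j) = ch F (W6.image p) i + ch F (W6.image p) j := by
  rw [ch_sum hp, ch_sum hp, ww, QuadraticMap.polar_add_left, QuadraticMap.polar_add_left, h.B, h.B, h.B, W6,
    Finset.sum_insert (by decide), Finset.sum_insert (by decide), Finset.sum_insert (by decide),
    Finset.sum_insert (by decide), Finset.sum_insert (by decide), Finset.sum_singleton,
    Finset.sum_insert (by decide), Finset.sum_insert (by decide), Finset.sum_insert (by decide),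
    Finset.sum_insert (by decide), Finset.sum_insert (by decide), Finset.sum_singleton]
  ring

theorem Fam.polar_xx (h : Fam Q f) (i j : Fin k) :
    polar Q (uu f p + ww f p) (f i j) = ch F (X6.image p) i + ch F (X6.image p) j := by
  have key : ∀ i, ch F (U6.image p) i + ch F (W6.image p) i = ch F (X6.image p) i := by
    intro i
    rw [ch_sum hp, ch_sum hp, ch_sum hp, U6, W6, X6,
      Finset.sum_insert (by decide), Finset.sum_insert (by decide), Finset.sum_insert (by decide),
      Finset.sum_insert (by decide), Finset.sum_insert (by decide), Finset.sum_singleton,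
      Finset.sum_insert (by decide), Finset.sum_insert (by decide), Finset.sum_insert (by decide),
      Finset.sum_insert (by decide), Finset.sum_insert (by decide), Finset.sum_singleton,
      Finset.sum_insert (by decide), Finset.sum_insert (by decide), Finset.sum_insert (by decide),
      Finset.sum_insert (by decide), Finset.sum_insert (by decide), Finset.sum_singleton]
    have h3 := add_self hF (dl F (p 3) i)
    have h4 := add_self hF (dl F (p 4) i)
    have h5 := add_self hF (dl F (p 5) i)
    linear_combination h3 + h4 + h5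
  rw [QuadraticMap.polar_add_left, h.polar_uu hp, h.polar_ww hp, ← key, ← key]
  ring

theorem Fam.q_uu (h : Fam Q f) : Q (uu f p) = 1 := by
  have h2 : (1 : F) + 1 = 0 := add_self hF 1
  have hd : ∀ s t : Fin 12, s ≠ t → dl F (p s) (p t) = 0 := fun s t hst => dl_ne fun e => hst (hp e)
  rw [uu, QuadraticMap.map_add (⇑Q), QuadraticMap.map_add (⇑Q), QuadraticMap.polar_add_left, h.B, h.B, h.B,
    h.q _ _ (hp.ne (by decide)), h.q _ _ (hp.ne (by decide)), h.q _ _ (hp.ne (by decide)),
    hd 0 2 (by decide), hd 0 3 (by decide), hd 1 2 (by decide), hd 1 3 (by decide), hd 0 4 (by decide),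
    hd 0 5 (by decide), hd 1 4 (by decide), hd 1 5 (by decide), hd 2 4 (by decide), hd 2 5 (by decide),
    hd 3 4 (by decide), hd 3 5 (by decide)]
  linear_combination h2

theorem Fam.q_ww (h : Fam Q f) : Q (ww f p) = 1 := by
  have h2 : (1 : F) + 1 = 0 := add_self hF 1
  have hd : ∀ s t : Fin 12, s ≠ t → dl F (p s) (p t) = 0 := fun s t hst => dl_ne fun e => hst (hp e)
  rw [ww, QuadraticMap.map_add (⇑Q), QuadraticMap.map_add (⇑Q), QuadraticMap.polar_add_left, h.B, h.B, h.B,
    h.q _ _ (hp.ne (by decide)), h.q _ _ (hp.ne (by decide)), h.q _ _ (hp.ne (by decide)),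
    hd 3 5 (by decide), hd 3 6 (by decide), hd 4 5 (by decide), hd 4 6 (by decide), hd 3 7 (by decide),
    hd 3 8 (by decide), hd 4 7 (by decide), hd 4 8 (by decide), hd 5 7 (by decide), hd 5 8 (by decide),
    hd 6 7 (by decide), hd 6 8 (by decide)]
  linear_combination h2

theorem Fam.polar_uw (h : Fam Q f) : polar Q (uu f p) (ww f p) = 1 := by
  have h2 : (1 : F) + 1 = 0 := add_self hF 1
  rw [ww, QuadraticMap.polar_add_right, QuadraticMap.polar_add_right, h.polar_uu hp, h.polar_uu hp, h.polar_uu hp,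
    ch_img hp, ch_img hp, ch_img hp, ch_img hp, ch_img hp, ch_img hp, if_pos (by decide), if_pos (by decide),
    if_pos (by decide), if_neg (by decide), if_neg (by decide), if_neg (by decide)]
  linear_combination h2

omit hp [Fintype F] hF in
theorem card_img (hp : Function.Injective p) {S : Finset (Fin 12)} (h6 : S.card = 6) : 5 ≤ (S.image p).card ∧ 5 ≤ (S.image p)ᶜ.card := by
  rw [Finset.card_image_of_injective _ hp, h6]
  refine ⟨by norm_num, ?_⟩
  have h1 : Sᶜ.image p ⊆ (S.image p)ᶜ := by
    intro i hi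
    obtain ⟨t, ht, rfl⟩ := Finset.mem_image.1 hi
    rw [Finset.mem_compl, Finset.mem_image]
    rintro ⟨s, hs, e⟩
    exact (Finset.mem_compl.1 ht) (hp e ▸ hs)
  have h2 := Finset.card_le_card h1
  rw [Finset.card_image_of_injective _ hp, Finset.card_compl, h6, Fintype.card_fin] at h2
  omega

/-- (L6) -/
theorem Fam.l6 (h : Fam Q f) (a b c d : Fin k) :
    f a b + f c d ≠ uu f p ∧ f a b + f c d ≠ ww f p ∧ f a b + f c d ≠ uu f p + ww f p := by
  obtain ⟨h1, h2⟩ := card_img hp (S := U6) (by decide)
  obtain ⟨h3, h4⟩ := card_img hp (S := W6) (by decide)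
  obtain ⟨h5, h6⟩ := card_img hp (S := X6) (by decide)
  exact ⟨h.no_pair hF h1 h2 (h.polar_uu hp) a b c d, h.no_pair hF h3 h4 (h.polar_ww hp) a b c d,
    h.no_pair hF h5 h6 (h.polar_xx hF hp) a b c d⟩

end Cfsg.Agent.H87.NA
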