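import Cfsg.Agent.H883.Bridge
import Cfsg.Agent.H87.NA.Fam

/-!
# S3499, natural alternating rows: the family from the equivariance, the transvections (helper87)
-/

set_option autoImplicit false
set_option linter.unusedSectionVars false

namespace Cfsg.Agent.H87.NA

open QuadraticMap Cfsg.Agent.LieClassical.OrthCore
open scoped commutatorElement

universe u v

theorem exists_even {k : ℕ} (hk : 12 ≤ k) {a b c a' b' c' : Fin k} (h1 : a ≠ b) (h2 : a ≠ c) (h3 : b ≠ c)
    (h1' : a' ≠ b') (h2' : a' ≠ c') (h3' : b' ≠ c') :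
    ∃ σ ∈ alternatingGroup (Fin k), σ a = a' ∧ σ b = b' ∧ σ c = c' := by
  have h0 := alternatingGroup.isMultiplyPretransitive (Fin k)
  have h4 : MulAction.IsMultiplyPretransitive (alternatingGroup (Fin k)) (Fin k) 3 :=
    MulAction.isMultiplyPretransitive_of_le (n := Nat.card (Fin k) - 2)
      (by rw [Nat.card_eq_fintype_card, Fintype.card_fin]; omega) (Nat.sub_le _ _)
  rw [MulAction.isMultiplyPretransitive_iff] at h4
  have hinj : ∀ {x y z : Fin k}, x ≠ y → x ≠ z → y ≠ z → Function.Injective ![x, y, z] := by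
    intro x y z hxy hxz hyz i j e
    fin_cases i <;> fin_cases j <;> simp_all
  obtain ⟨g, hg⟩ := h4 ⟨![a, b, c], hinj h1 h2 h3⟩ ⟨![a', b', c'], hinj h1' h2' h3'⟩
  refine ⟨g, g.2, ?_, ?_, ?_⟩
  · exact DFunLike.congr_fun hg 0
  · exact DFunLike.congr_fun hg 1
  · exact DFunLike.congr_fun hg 2

theorem exists_third {k : ℕ} (hk : 12 ≤ k) (a b : Fin k) : ∃ c, a ≠ c ∧ b ≠ c := by
  obtain ⟨y, -, hy⟩ := Finset.exists_mem_notMem_of_card_lt_card
    (show ({a, b} : Finset (Fin k)).card < (Finset.univ : Finset (Fin k)).card by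
      rw [Finset.card_univ, Fintype.card_fin]
      have := Finset.card_le_two (a := a) (b := b)
      omega)
  simp only [Finset.mem_insert, Finset.mem_singleton, not_or] at hy
  exact ⟨y, Ne.symm hy.1, Ne.symm hy.2⟩

variable {F : Type u} [Field F] [Fintype F] {V : Type v} [AddCommGroup V] [Module F V] {k : ℕ}
  (hF : Fintype.card F = 2) {Q : QuadraticForm F V} {f : Fin k → Fin k → V}

include hF

theorem fam (hQ : Nondeg Q) (hk : 12 ≤ k) (f0 : ∀ i, f i i = 0) (f1 : ∀ i j l, f i j + f j l = f i l)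
    (fne : ∀ i j, i ≠ j → f i j ≠ 0)
    (fs : Submodule.span F (Set.range fun p : Fin k × Fin k => f p.1 p.2) = ⊤)
    (inv : ∀ σ ∈ alternatingGroup (Fin k), ∃ g ∈ O Q, ∀ i j, g (f i j) = f (σ i) (σ j)) : Fam Q f := by
  have symm : ∀ i j, f i j = f j i := fun i j => eq_of_add hF (by rw [f1, f0])
  have pself : ∀ x, polar Q x x = 0 := by
    intro x
    rw [QuadraticMap.polar_self, two_smul, add_self hF]
  -- three points
  have key : ∀ i j l i' j' l' : Fin k, i ≠ j → i ≠ l → j ≠ l → i' ≠ j' → i' ≠ l' → j' ≠ l' →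
      Q (f i j) = Q (f i' j') ∧ polar Q (f i j) (f j l) = polar Q (f i' j') (f j' l') := by
    intro i j l i' j' l' h1 h2 h3 h1' h2' h3'
    obtain ⟨σ, hσ, e1, e2, e3⟩ := exists_even hk h1 h2 h3 h1' h2' h3'
    obtain ⟨g, hg, hgf⟩ := inv σ hσ
    constructor
    · rw [← e1, ← e2, ← hgf, hg]
    · rw [← e1, ← e2, ← e3, ← hgf, ← hgf, polar_map hg]
  have hlt : ∀ n, n < 12 → n < k := fun n hn => lt_of_lt_of_le hn hk
  set c1 : F := polar Q (f ⟨0, hlt 0 (by norm_num)⟩ ⟨1, hlt 1 (by norm_num)⟩)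
    (f ⟨1, hlt 1 (by norm_num)⟩ ⟨2, hlt 2 (by norm_num)⟩) with hc1
  have hc : ∀ i j x, i ≠ j → polar Q (f i j) (f j x) = c1 * (1 + dl F i x + dl F j x) := by
    intro i j x hij
    by_cases hjx : j = x
    · rw [← hjx, f0, QuadraticMap.polar_zero_right, dl_self, dl_ne hij]
      linear_combination -c1 * add_self hF (1 : F)
    by_cases hix : i = x
    · rw [← hix, symm j i, pself, dl_self, dl_ne (Ne.symm hij)]
      linear_combination -c1 * add_self hF (1 : F)
    rw [dl_ne hix, dl_ne hjx, add_zero, add_zero, mul_one, hc1]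
    exact (key i j x _ _ _ hij hix hjx (by simp) (by simp) (by simp)).2
  have hB : ∀ i j a b, polar Q (f i j) (f a b) = c1 * (dl F i a + dl F i b + dl F j a + dl F j b) := by
    intro i j a b
    by_cases hij : i = j
    · rw [← hij, f0, QuadraticMap.polar_zero_left]
      linear_combination -c1 * add_self hF (dl F i a) - c1 * add_self hF (dl F i b)
    · rw [← f1 a j b, QuadraticMap.polar_add_right, symm a j, hc i j a hij, hc i j b hij]
      linear_combination c1 * add_self hF (1 : F)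
  have hc0 : c1 ≠ 0 := by
    intro e
    have h1 : ∀ y, polar Q (f ⟨0, hlt 0 (by norm_num)⟩ ⟨1, hlt 1 (by norm_num)⟩) y = 0 := by
      intro y
      have hy : y ∈ Submodule.span F (Set.range fun p : Fin k × Fin k => f p.1 p.2) := by
        rw [fs]
        exact Submodule.mem_top
      induction hy using Submodule.span_induction with
      | mem y hy =>
        obtain ⟨p, rfl⟩ := hy
        show polar Q _ (f p.1 p.2) = 0
        rw [hB, e, zero_mul]
      | zero => exact QuadraticMap.polar_zero_right Q _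
      | add x y _ _ hx hy => rw [QuadraticMap.polar_add_right, hx, hy, add_zero]
      | smul a x _ hx => rw [QuadraticMap.polar_smul_right, hx, smul_zero]
    exact fne _ _ (by simp) (hQ _ h1)
  have hc2 : c1 = 1 := (eq_zero_or_one hF c1).resolve_left hc0
  refine ⟨f0, f1, fun i j a b => by rw [hB, hc2, one_mul], fun i j hij => ?_⟩
  obtain ⟨l, hil, hjl⟩ := exists_third hk i j
  rw [← f1 i l j, Q_add, hB, hc2, (key i l j l j i hil hij (Ne.symm hjl) (Ne.symm hjl) (Ne.symm hil) (Ne.symm hij)).1,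
    dl_ne hil, dl_ne hij, dl_self, dl_ne (Ne.symm hjl)]
  linear_combination add_self hF (Q (f l j))

variable {p : Fin 12 → Fin k} (hp : Function.Injective p)

theorem neg_eq' (x : V) : -x = x := neg_eq_of_add_eq_zero_left (add_self' hF x)

theorem refl_apply' {v : V} (hv : Q v = 1) (hv' : Q v ≠ 0) (x : V) : refl Q v hv' x = x + polar Q v x • v := by
  rw [refl_apply, hv, inv_one, one_mul, sub_eq_add_neg, neg_eq' hF]

include hp

theorem Fam.q_ne (h : Fam Q f) : Q (uu f p) ≠ 0 ∧ Q (ww f p) ≠ 0 := by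
  rw [h.q_uu hF hp, h.q_ww hF hp]
  exact ⟨one_ne_zero, one_ne_zero⟩

/-- `x = t_u t_w` -/
theorem Fam.exists_x (h : Fam Q f) : ∃ X ∈ ⁅O Q, O Q⁆, (∀ v, X v = v + polar Q (ww f p) v • ww f p +
      (polar Q (uu f p) v + polar Q (ww f p) v) • uu f p) ∧
    (∀ v, X⁻¹ v = v + polar Q (uu f p) v • uu f p + (polar Q (ww f p) v + polar Q (uu f p) v) • ww f p) ∧
    ∀ g ∈ O Q, g (uu f p) = ww f p → g (ww f p) = uu f p → g * X * g⁻¹ = X⁻¹ := by
  have hu := h.q_uu hF hp
  have hw := h.q_ww hF hp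
  obtain ⟨hu', hw'⟩ := h.q_ne hF hp
  have huw := h.polar_uw hF hp
  have hwu : polar Q (ww f p) (uu f p) = 1 := by rw [QuadraticMap.polar_comm, huw]
  have h2 : (1 : F) + 1 = 0 := add_self hF 1
  have hx : Q (uu f p + ww f p) = 1 := by
    rw [Q_add, hu, hw, huw]
    linear_combination h2
  have hx' : Q (uu f p + ww f p) ≠ 0 := by
    rw [hx]
    exact one_ne_zero
  have e1 : refl Q (uu f p + ww f p) hx' (uu f p) = ww f p := by
    rw [refl_apply' hF hx, QuadraticMap.polar_add_left, hwu, QuadraticMap.polar_self, two_smul, hu, h2, zero_add,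
      one_smul, ← add_assoc, add_self' hF, zero_add]
  have e2 : refl Q (ww f p) hw' = refl Q (uu f p + ww f p) hx' * refl Q (uu f p) hu' *
      (refl Q (uu f p + ww f p) hx')⁻¹ := by
    have h3 : Q (refl Q (uu f p + ww f p) hx' (uu f p)) ≠ 0 := by rw [e1]; exact hw'
    rw [refl_conj (refl_mem_O hx') hu' h3]
    congr 1
    exact e1.symm
  refine ⟨refl Q (uu f p) hu' * refl Q (ww f p) hw', ?_, ?_, ?_, ?_⟩
  · have e3 : refl Q (uu f p) hu' * refl Q (ww f p) hw' = ⁅refl Q (uu f p) hu', refl Q (uu f p + ww f p) hx'⁆ := by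
      rw [e2, commutatorElement_def, refl_inv hu']
      group
    rw [e3]
    exact Subgroup.commutator_mem_commutator (refl_mem_O hu') (refl_mem_O hx')
  · intro v
    show refl Q (uu f p) hu' (refl Q (ww f p) hw' v) = _
    rw [refl_apply' hF hw, refl_apply' hF hu, QuadraticMap.polar_add_right, QuadraticMap.polar_smul_right, huw,
      smul_eq_mul, mul_one]
  · intro v
    rw [mul_inv_rev, refl_inv hw', refl_inv hu']
    show refl Q (ww f p) hw' (refl Q (uu f p) hu' v) = _
    rw [refl_apply' hF hu, refl_apply' hF hw, QuadraticMap.polar_add_right, QuadraticMap.polar_smul_right, hwu,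
      smul_eq_mul, mul_one]
  · intro g hg h3 h4
    have h5 : Q (g (uu f p)) ≠ 0 := by rw [h3]; exact hw'
    have h6 : Q (g (ww f p)) ≠ 0 := by rw [h4]; exact hu'
    have e4 : g * (refl Q (uu f p) hu' * refl Q (ww f p) hw') * g⁻¹ =
        (g * refl Q (uu f p) hu' * g⁻¹) * (g * refl Q (ww f p) hw' * g⁻¹) := by group
    rw [e4, refl_conj hg hu' h5, refl_conj hg hw' h6, mul_inv_rev, refl_inv hw', refl_inv hu']
    congr 1
    · congr 1
    · congr 1

end Cfsg.Agent.H87.NA
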