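import Cfsg.Agent.H419.EP.Soc
import Cfsg.Agent.H87.NA.Trans

/-!
# S3499, natural alternating rows: `A` with a family of vectors is no stabiliser (helper87, proof of helper575)
-/

set_option autoImplicit false
set_option linter.unusedSectionVars false

namespace Cfsg.Agent.H87.NA

open Cfsg Cfsg.Geo Cfsg.Agent.H419.EP Cfsg.Agent.H284 QuadraticMap Cfsg.Agent.LieClassical.OrthCore
open Cfsg.Agent.LieClassical.OrthFinite Subgroup

universe u v

/-! ### the permutation swapping `u` and `w` -/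

section Perm

variable {k : ℕ}

def tau (p : Fin 12 → Fin k) : Equiv.Perm (Fin k) :=
  Equiv.swap (p 0) (p 6) * Equiv.swap (p 1) (p 7) * Equiv.swap (p 2) (p 8) * Equiv.swap (p 3) (p 4)

def tau0 : Equiv.Perm (Fin 12) :=
  Equiv.swap 0 6 * Equiv.swap 1 7 * Equiv.swap 2 8 * Equiv.swap 3 4

theorem tau_apply {p : Fin 12 → Fin k} (hp : Function.Injective p) (t : Fin 12) : tau p (p t) = p (tau0 t) := by
  simp only [tau, tau0, Equiv.Perm.mul_apply, ← hp.map_swap]

theorem tau_mem {p : Fin 12 → Fin k} (hp : Function.Injective p) : tau p ∈ alternatingGroup (Fin k) := by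
  rw [Equiv.Perm.mem_alternatingGroup, tau, map_mul, map_mul, map_mul, Equiv.Perm.sign_swap (hp.ne (by decide)),
    Equiv.Perm.sign_swap (hp.ne (by decide)), Equiv.Perm.sign_swap (hp.ne (by decide)),
    Equiv.Perm.sign_swap (hp.ne (by decide))]
  rfl

end Perm

section

variable {F : Type u} [Field F] [Fintype F] {V : Type v} [AddCommGroup V] [Module F V] {k : ℕ}
  (hF : Fintype.card F = 2) {Q : QuadraticForm F V} {f : Fin k → Fin k → V} {p : Fin 12 → Fin k}
  (hp : Function.Injective p)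

include hF hp

theorem Fam.swap_uw (h : Fam Q f) {g : V ≃ₗ[F] V} (hg : ∀ i j, g (f i j) = f (tau p i) (tau p j)) :
    g (uu f p) = ww f p ∧ g (ww f p) = uu f p := by
  have he : ∀ i j, f i j = f i (p 0) + f j (p 0) := fun i j => by rw [← h.f1 i (p 0) j, h.symm hF (p 0) j]
  have t0 : tau0 0 = 6 := by decide
  have t1 : tau0 1 = 7 := by decide
  have t2 : tau0 2 = 8 := by decide
  have t3 : tau0 3 = 4 := by decide
  have t4 : tau0 4 = 3 := by decide
  have t5 : tau0 5 = 5 := by decide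
  have t6 : tau0 6 = 0 := by decide
  have t7 : tau0 7 = 1 := by decide
  have t8 : tau0 8 = 2 := by decide
  constructor
  · rw [uu, ww, map_add, map_add, hg, hg, hg, tau_apply hp, tau_apply hp, tau_apply hp, tau_apply hp, tau_apply hp,
      tau_apply hp, t0, t1, t2, t3, t4, t5, he (p 6) (p 7), he (p 8) (p 4), he (p 3) (p 5), he (p 3) (p 4),
      he (p 5) (p 6), he (p 7) (p 8)]
    abel
  · rw [uu, ww, map_add, map_add, hg, hg, hg, tau_apply hp, tau_apply hp, tau_apply hp, tau_apply hp, tau_apply hp,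
      tau_apply hp, t3, t4, t5, t6, t7, t8, he (p 4) (p 3), he (p 5) (p 0), he (p 1) (p 2), he (p 0) (p 1),
      he (p 2) (p 3), he (p 4) (p 5)]
    abel

omit [Fintype F] hF in
theorem parts (i : Fin k) : ∃ j l, i ≠ j ∧ i ≠ l ∧ j ≠ l ∧ ch F (U6.image p) i = ch F (U6.image p) j ∧
    ch F (W6.image p) i = ch F (W6.image p) j ∧ ch F (U6.image p) i = ch F (U6.image p) l ∧
    ch F (W6.image p) i = ch F (W6.image p) l := by
  by_cases hi : ∃ t, p t = i
  · obtain ⟨t, rfl⟩ := hi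
    have h1 : ∀ t : Fin 12, ∃ a b : Fin 12, t ≠ a ∧ t ≠ b ∧ a ≠ b ∧ (t ∈ U6 ↔ a ∈ U6) ∧ (t ∈ W6 ↔ a ∈ W6) ∧
      (t ∈ U6 ↔ b ∈ U6) ∧ (t ∈ W6 ↔ b ∈ W6) := by decide
    obtain ⟨a, b, h2, h3, h4, h5, h6, h7, h8⟩ := h1 t
    refine ⟨p a, p b, hp.ne h2, hp.ne h3, hp.ne h4, ?_, ?_, ?_, ?_⟩
    · simp only [ch_img hp, h5]
    · simp only [ch_img hp, h6]
    · simp only [ch_img hp, h7]
    · simp only [ch_img hp, h8]
  · have h1 : ∀ S : Finset (Fin 12), ch F (S.image p) i = 0 := by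
      intro S
      rw [ch, if_neg]
      intro hm
      obtain ⟨t, -, e⟩ := Finset.mem_image.1 hm
      exact hi ⟨t, e⟩
    refine ⟨p 9, p 10, fun e => hi ⟨_, e.symm⟩, fun e => hi ⟨_, e.symm⟩, hp.ne (by decide), ?_, ?_, ?_, ?_⟩
    · rw [h1, ch_img hp, if_neg (by decide)]
    · rw [h1, ch_img hp, if_neg (by decide)]
    · rw [h1, ch_img hp, if_neg (by decide)]
    · rw [h1, ch_img hp, if_neg (by decide)]

theorem Fam.fix (h : Fam Q f) (hk : 12 ≤ k) {s : Equiv.Perm (Fin k)}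
    (hs : ∀ i j, ch F (U6.image p) i = ch F (U6.image p) j → ch F (W6.image p) i = ch F (W6.image p) j →
      f (s i) (s j) = f i j) (i : Fin k) : s i = i := by
  obtain ⟨j, l, h1, h2, h3, h4, h5, h6, h7⟩ := parts (F := F) hp i
  rcases h.inj hF (by omega) h1 (hs i j h4 h5) with h8 | h8
  · exact h8.1
  rcases h.inj hF (by omega) h2 (hs i l h6 h7) with h9 | h9
  · exact h9.1
  exact absurd (h8.1.symm.trans h9.1) h3

end

theorem kill {Q : Type*} [Group Q] [Finite Q] {A : Subgroup Q} {Γ : Subgroup (MulAut Q)} (h : EPT A Γ) {ι : Type}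
    [Fintype ι] [DecidableEq ι] {F : Type*} [Field F] [Fintype F] (hF : Fintype.card F = 2) {Qf : (ι → F) → F}
    (hQ : Geo.IsNondegenerateQuadraticForm Qf) (m : Model Q (Geo.omegaGL Qf)) {k : ℕ} (hk : 12 ≤ k)
    (s : Q → Equiv.Perm (Fin k)) (hs : ∀ σ ∈ alternatingGroup (Fin k), ∃ a ∈ A, s a = σ)
    (f : Fin k → Fin k → ι → F) (f0 : ∀ i, f i i = 0) (f1 : ∀ i j l, f i j + f j l = f i l)
    (fne : ∀ i j, i ≠ j → f i j ≠ 0)
    (fs : Submodule.span F (Set.range fun p : Fin k × Fin k => f p.1 p.2) = ⊤)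
    (f2 : ∀ g : Geo.omegaGL Qf, m.π g ∈ A → ∀ i j,
      ((g : GL ι F) : Matrix ι ι F).mulVec (f i j) = f (s (m.π g) i) (s (m.π g) j)) : False := by
  obtain ⟨Q', rfl, hQ'⟩ := Cfsg.Agent.H883.Bridge.exists_quadraticForm hQ
  have hf2 : ∀ g : Geo.omegaGL (⇑Q'), m.π g ∈ A → ∀ i j,
    glEquiv ι F (g : GL ι F) (f i j) = f (s (m.π g) i) (s (m.π g) j) := f2
  have hO : ∀ g : Geo.omegaGL (⇑Q'), glEquiv ι F (g : GL ι F) ∈ O Q' := by
    intro g
    have h1 : glEquiv ι F (g : GL ι F) ∈ ⁅O Q', O Q'⁆ := by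
      rw [← Cfsg.Agent.H883.Bridge.map_omegaGL]
      exact ⟨g, g.2, rfl⟩
    exact Subgroup.commutator_le_self _ h1
  have hfam : Fam Q' f := fam hF hQ' hk f0 f1 fne fs (by
    intro σ hσ
    obtain ⟨a, ha, hsa⟩ := hs σ hσ
    obtain ⟨g, rfl⟩ := m.surj a
    exact ⟨glEquiv ι F g, hO g, fun i j => by rw [hf2 g ha, hsa]⟩)
  have hp : Function.Injective (Fin.castLE hk) := Fin.castLE_injective hk
  generalize Fin.castLE hk = p at hp
  obtain ⟨X, hX, hXv, hXi, hXc⟩ := hfam.exists_x hF hp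
  rw [← Cfsg.Agent.H883.Bridge.map_omegaGL] at hX
  obtain ⟨X0, hX0, rfl⟩ := hX
  have hwv : polar Q' (ww f p) (f (p 0) (p 9)) = 0 := by
    rw [hfam.polar_ww hp, ch_img hp, ch_img hp, if_neg (by decide), if_neg (by decide), add_zero]
  have huv : polar Q' (uu f p) (f (p 0) (p 9)) = 1 := by
    rw [hfam.polar_uu hp, ch_img hp, ch_img hp, if_pos (by decide), if_neg (by decide), add_zero]
  set x0 : Geo.omegaGL (⇑Q') := ⟨X0, hX0⟩ with hx0
  set x : Q := m.π x0 with hxdef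
  have hx : x ∉ A := by
    intro hxA
    have h1 := hf2 x0 hxA (p 0) (p 9)
    have h2 : glEquiv ι F X0 (f (p 0) (p 9)) = _ := hXv (f (p 0) (p 9))
    rw [hwv, huv, zero_smul, add_zero, add_zero, one_smul] at h2
    have h3 : f (s (m.π x0) (p 0)) (s (m.π x0) (p 9)) = f (p 0) (p 9) + uu f p := h1.symm.trans h2
    refine (hfam.l6 hF hp (s (m.π x0) (p 0)) (s (m.π x0) (p 9)) (p 0) (p 9)).1 ?_
    rw [h3, add_comm, ← add_assoc, add_self' hF, zero_add]
  have hcomm : ∀ g : Geo.omegaGL (⇑Q'), m.π g ∈ A → x⁻¹ * m.π g * x ∈ A → g * x0 = x0 * g := by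
    intro g hg hgx
    have hh : m.π (g⁻¹ * (x0⁻¹ * g * x0)) ∈ A := by
      rw [map_mul, map_inv, map_mul, map_mul, map_inv]
      exact A.mul_mem (A.inv_mem hg) hgx
    have hfix := hfam.fix hF hp hk (s := s (m.π (g⁻¹ * (x0⁻¹ * g * x0)))) (by
      intro i j h1 h2
      have e1 := hf2 _ hh i j
      have e2 : glEquiv ι F X0 (f i j) = f i j := by
        have h3 : glEquiv ι F X0 (f i j) = _ := hXv (f i j)
        rw [h3, hfam.polar_uu hp, hfam.polar_ww hp, h1, h2, add_self hF, add_self hF, add_zero, zero_smul, zero_smul,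
          add_zero, add_zero]
      have e3 : glEquiv ι F (g : GL ι F) (glEquiv ι F ((g⁻¹ * (x0⁻¹ * g * x0) : Geo.omegaGL (⇑Q')) : GL ι F) (f i j)) =
          (glEquiv ι F X0)⁻¹ (glEquiv ι F (g : GL ι F) (f i j)) := by
        have e4 : glEquiv ι F (g : GL ι F) * glEquiv ι F ((g⁻¹ * (x0⁻¹ * g * x0) : Geo.omegaGL (⇑Q')) : GL ι F) =
            (glEquiv ι F X0)⁻¹ * glEquiv ι F (g : GL ι F) * glEquiv ι F X0 := by
          rw [← map_mul, ← map_inv, ← map_mul, ← map_mul]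
          congr 1
          push_cast
          rw [hx0]
          group
        have e5 := LinearEquiv.congr_fun e4 (f i j)
        rw [LinearEquiv.mul_apply, LinearEquiv.mul_apply, LinearEquiv.mul_apply, e2] at e5
        exact e5
      rw [e1, hf2 g hg, hf2 g hg] at e3
      have e6 := (hXi (f (s (m.π g) i) (s (m.π g) j)))
      have e7 := e3.trans e6
      have hl := hfam.l6 hF hp (s (m.π g) (s (m.π (g⁻¹ * (x0⁻¹ * g * x0))) i))
        (s (m.π g) (s (m.π (g⁻¹ * (x0⁻¹ * g * x0))) j)) (s (m.π g) i) (s (m.π g) j)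
      have e8 : f (s (m.π g) (s (m.π (g⁻¹ * (x0⁻¹ * g * x0))) i)) (s (m.π g) (s (m.π (g⁻¹ * (x0⁻¹ * g * x0))) j)) =
          f (s (m.π g) i) (s (m.π g) j) := by
        generalize polar Q' (uu f p) (f (s (m.π g) i) (s (m.π g) j)) = a at e7
        generalize polar Q' (ww f p) (f (s (m.π g) i) (s (m.π g) j)) + a = b at e7
        rw [e7] at hl ⊢
        rcases eq_zero_or_one hF a with rfl | rfl <;> rcases eq_zero_or_one hF b with rfl | rfl
        · rw [zero_smul, zero_smul, add_zero, add_zero]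
        · exfalso
          apply hl.2.1
          rw [zero_smul, one_smul, add_zero, add_right_comm, add_self' hF, zero_add]
        · exfalso
          apply hl.1
          rw [zero_smul, one_smul, add_zero, add_right_comm, add_self' hF, zero_add]
        · exfalso
          apply hl.2.2
          rw [one_smul, one_smul, add_right_comm, add_right_comm _ (uu f p), add_self' hF, zero_add]
      rw [← hf2 g hg, ← hf2 g hg] at e8
      exact (glEquiv ι F (g : GL ι F)).injective e8)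
    have h1 : glEquiv ι F ((g⁻¹ * (x0⁻¹ * g * x0) : Geo.omegaGL (⇑Q')) : GL ι F) = 1 := by
      apply LinearEquiv.toLinearMap_injective
      apply LinearMap.ext_on_range fs
      rintro ⟨i, j⟩
      show glEquiv ι F ((g⁻¹ * (x0⁻¹ * g * x0) : Geo.omegaGL (⇑Q')) : GL ι F) (f i j) = f i j
      rw [hf2 _ hh, hfix, hfix]
    have h2 : ((g⁻¹ * (x0⁻¹ * g * x0) : Geo.omegaGL (⇑Q')) : GL ι F) = 1 := (map_eq_one_iff _ (glEquiv ι F).injective).1 h1
    have h3 : g⁻¹ * (x0⁻¹ * g * x0) = 1 := Subtype.ext h2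
    calc g * x0 = x0 * g * (g⁻¹ * (x0⁻¹ * g * x0)) := by group
      _ = x0 * g := by rw [h3, mul_one]
  have hM1 : ∀ a ∈ A ⊓ cj x A, a * x = x * a := by
    rintro a ⟨ha, hax⟩
    obtain ⟨g, rfl⟩ := m.surj a
    rw [hxdef, ← map_mul, ← map_mul, hcomm g ha (mem_cj.1 hax)]
  have hM2 : ∀ a ∈ A, a * x = x * a → a ∈ A ⊓ cj x A := by
    intro a ha hax
    refine ⟨ha, mem_cj.2 ?_⟩
    rw [mul_assoc, hax, inv_mul_cancel_left]
    exact ha
  obtain ⟨a0, ha0, hsa0⟩ := hs (tau p) (tau_mem hp)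
  obtain ⟨g0, rfl⟩ := m.surj a0
  have hg0 : ∀ i j, glEquiv ι F (g0 : GL ι F) (f i j) = f (tau p i) (tau p j) := fun i j => by rw [hf2 g0 ha0, hsa0]
  obtain ⟨hsw1, hsw2⟩ := hfam.swap_uw hF hp hg0
  have hc1 := hXc _ (hO g0) hsw1 hsw2
  have hc2 : m.π g0 * x * (m.π g0)⁻¹ = x⁻¹ := by
    have h1 : g0 * x0 * g0⁻¹ = x0⁻¹ := by
      apply Subtype.ext
      apply (glEquiv ι F).injective
      push_cast
      rw [map_mul, map_mul, map_inv, map_inv]
      exact hc1
    rw [hxdef, ← map_mul, ← map_inv, ← map_inv, ← map_mul, h1]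
  have hc3 : m.π g0 * x⁻¹ * (m.π g0)⁻¹ = x := by
    have h1 := congrArg (fun y => y⁻¹) hc2
    simp only [mul_inv_rev, inv_inv] at h1
    rw [mul_assoc]
    exact h1
  have hmem : m.π g0 ∈ cj x A := by
    refine h.norm_aut hx le_rfl (fun σ hσ k hk => hσ k hk) (h.M0 x hx) ha0 ?_
    intro a ha
    refine hM2 _ (A.mul_mem (A.mul_mem ha0 ha.1) (A.inv_mem ha0)) ?_
    have h1 := hM1 a ha
    have h2 : a * x⁻¹ = x⁻¹ * a := by
      rw [eq_inv_mul_iff_mul_eq, ← mul_assoc, ← h1, mul_inv_cancel_right]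
    calc m.π g0 * a * (m.π g0)⁻¹ * x = m.π g0 * a * (m.π g0)⁻¹ * (m.π g0 * x⁻¹ * (m.π g0)⁻¹) := by rw [hc3]
      _ = m.π g0 * (a * x⁻¹) * (m.π g0)⁻¹ := by group
      _ = m.π g0 * (x⁻¹ * a) * (m.π g0)⁻¹ := by rw [h2]
      _ = (m.π g0 * x⁻¹ * (m.π g0)⁻¹) * (m.π g0 * a * (m.π g0)⁻¹) := by group
      _ = x * (m.π g0 * a * (m.π g0)⁻¹) := by rw [hc3]
  have hxx : m.π x0 = m.π x0⁻¹ := by
    have h1 := hM1 _ ⟨ha0, hmem⟩
    rw [h1, mul_inv_cancel_right] at hc2
    rw [map_inv]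
    exact hc2
  obtain ⟨z, hz, e⟩ := (m.π_eq_iff x0 x0⁻¹).1 hxx
  obtain ⟨c, hc⟩ := (Geo.mem_scalars_iff z).1 hz
  have hc' : (c : F) = 1 := (eq_zero_or_one hF (c : F)).resolve_left c.ne_zero
  rw [hc', one_smul] at hc
  have hz1 : z = 1 := Units.ext hc
  rw [hz1, mul_one] at e
  have e1 : glEquiv ι F X0 = (glEquiv ι F X0)⁻¹ := by
    rw [← map_inv]
    exact congrArg _ e
  have h1 : glEquiv ι F X0 (f (p 0) (p 9)) = _ := hXv (f (p 0) (p 9))
  have h2 : (glEquiv ι F X0)⁻¹ (f (p 0) (p 9)) = _ := hXi (f (p 0) (p 9))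
  rw [← e1] at h2
  have h3 := h1.symm.trans h2
  rw [hwv, huv, zero_smul, add_zero, add_zero, one_smul, zero_add, one_smul] at h3
  have h4 : ww f p = 0 := by
    have h5 : f (p 0) (p 9) + uu f p + 0 = f (p 0) (p 9) + uu f p + ww f p := by rw [add_zero]; exact h3
    exact (add_left_cancel h5).symm
  have h6 := hfam.polar_uw hF hp
  rw [h4, QuadraticMap.polar_zero_right] at h6
  exact zero_ne_one h6

end Cfsg.Agent.H87.NA
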